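import Groth.Agent.VersalLift.Basic

/-! From versality to smoothness for finite residue extensions; lifting through smooth morphisms. -/

set_option autoImplicit false
universe u

open CategoryTheory AlgebraicGeometry IsLocalRing

namespace Groth.Agent.VersalLift

theorem surjective_residueFieldMap_of_eq {X Y : Scheme.{u}} {f g : X ⟶ Y} (e : f = g) (x : X)
    (h : Function.Surjective (f.residueFieldMap x)) : Function.Surjective (g.residueFieldMap x) := e ▸ h

theorem surjective_residueFieldMap_of_isPreimmersion {X Y : Scheme.{u}} (f : X ⟶ Y) [IsPreimmersion f] (x : X) :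
    Function.Surjective (f.residueFieldMap x) := by
  intro z
  obtain ⟨z, rfl⟩ := X.residue_surjective x z
  obtain ⟨w, rfl⟩ := f.stalkMap_surjective x z
  exact ⟨Y.residue _ w, ConcreteCategory.congr_hom (Scheme.residue_residueFieldMap f x) w⟩

/-- Versality implies the lifting property for finite residue field extensions. -/
theorem formallySmooth_of_versal {S T : Scheme.{u}} (g : T ⟶ S) (t : T)
    (hT : ∀ (C C' : Type u) [CommRing C] [CommRing C'] [IsLocalRing C] [IsLocalRing C'] [IsArtinianRing C]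
        [IsArtinianRing C'] (π : C' →+* C), Function.Surjective π →
        ∀ (a : Spec (CommRingCat.of C) ⟶ T) (b : Spec (CommRingCat.of C') ⟶ S),
          a (IsLocalRing.closedPoint C) = t →
          Function.Surjective (a.residueFieldMap (IsLocalRing.closedPoint C)).hom →
          Spec.map (CommRingCat.ofHom π) ≫ b = a ≫ g →
          ∃ c : Spec (CommRingCat.of C') ⟶ T, Spec.map (CommRingCat.ofHom π) ≫ c = a ∧ c ≫ g = b)
    (C C' : Type u) [CommRing C] [CommRing C'] [IsLocalRing C] [IsLocalRing C'] [IsArtinianRing C]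
    [IsArtinianRing C'] (π : C' →+* C) (hπ : Function.Surjective π)
    (a : Spec (CommRingCat.of C) ⟶ T) (b : Spec (CommRingCat.of C') ⟶ S)
    (hat : a (IsLocalRing.closedPoint C) = t)
    (hfin : (a.residueFieldMap (IsLocalRing.closedPoint C)).hom.Finite)
    (hcomm : Spec.map (CommRingCat.ofHom π) ≫ b = a ≫ g) :
    ∃ c : Spec (CommRingCat.of C') ⟶ T, Spec.map (CommRingCat.ofHom π) ≫ c = a ∧ c ≫ g = b := by
  subst hat
  let x : ↥(Spec (.of C)) := closedPoint C
  let κ := (Spec (.of C)).residueField x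
  let φ : T.residueField (a x) →+* κ := (a.residueFieldMap x).hom
  let q := T.fromSpecResidueField (a x)
  let ρ' : CommRingCat.of C ⟶ κ := CommRingCat.ofHom (algebraMap C x.asIdeal.ResidueField) ≫
    (Scheme.Spec.residueFieldIso (.of C) x).inv
  have hρ : Function.Surjective ρ'.hom := by
    intro z
    obtain ⟨c, hc⟩ := Ideal.algebraMap_residueField_surjective (maximalIdeal C)
      ((Scheme.Spec.residueFieldIso (.of C) x).hom z)
    refine ⟨c, ?_⟩
    refine (congrArg (Scheme.Spec.residueFieldIso (.of C) x).inv hc).trans ?_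
    exact ConcreteCategory.congr_hom (Scheme.Spec.residueFieldIso (.of C) x).hom_inv_id z
  have hρmap : Spec.map (CommRingCat.ofHom ρ'.hom) = (Spec (.of C)).fromSpecResidueField x := by
    rw [← Scheme.Spec.map_residueFieldIso_inv_eq_fromSpecResidueField, ← Spec.map_comp]
    rfl
  have h1 : Spec.map (CommRingCat.ofHom ρ'.hom) ≫ a = Spec.map (CommRingCat.ofHom φ) ≫ q := by
    rw [hρmap]
    exact (Scheme.Hom.SpecMap_residueFieldMap_fromSpecResidueField a x).symm
  have hfin' : φ.Finite := hfin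
  obtain ⟨a₀, ha₀, hq₀⟩ := exists_factor ρ'.hom φ hρ a q h1
  have hρ2 : Function.Surjective (ρ'.hom.comp π) := hρ.comp hπ
  have h2 : Spec.map (CommRingCat.ofHom (ρ'.hom.comp π)) ≫ b =
      Spec.map (CommRingCat.ofHom φ) ≫ (q ≫ g) := by
    rw [CommRingCat.ofHom_comp, Spec.map_comp, Category.assoc, hcomm, ← Category.assoc, h1, Category.assoc]
  obtain ⟨b₀, hb₀, hqb₀⟩ := exists_factor (ρ'.hom.comp π) φ hρ2 b (q ≫ g) h2
  haveI := isArtinianRing_sub ρ'.hom φ hρ hfin'
  haveI := isArtinianRing_sub (ρ'.hom.comp π) φ hρ2 hfin'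
  let π₀ : sub (ρ'.hom.comp π) φ →+* sub ρ'.hom φ :=
    (π.comp (sub (ρ'.hom.comp π) φ).subtype).codRestrict _ fun c => c.2
  have hπ₀ : Function.Surjective π₀ := fun c => by
    obtain ⟨d, hd⟩ := hπ c.1
    refine ⟨⟨d, ?_⟩, Subtype.ext hd⟩
    show ρ'.hom (π d) ∈ φ.range
    rw [hd]
    exact c.2
  have hcl : a₀ (closedPoint _) = a x := by
    have : (Spec.map (CommRingCat.ofHom (sub ρ'.hom φ).subtype) ≫ a₀) x = a x := by rw [ha₀]
    change a₀ (PrimeSpectrum.comap (sub ρ'.hom φ).subtype (closedPoint C)) = a x at this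
    rwa [IsLocalRing.comap_closedPoint] at this
  have hsurj : Function.Surjective (a₀.residueFieldMap (closedPoint _)).hom := by
    let p : ↥(Spec (T.residueField (a x))) := closedPoint _
    have h3 := surjective_residueFieldMap_of_eq hq₀.symm p
      (surjective_residueFieldMap_of_isPreimmersion q p)
    rw [Scheme.residueFieldMap_comp] at h3
    have hp : (Spec.map (CommRingCat.ofHom (toK ρ'.hom φ))) p = closedPoint _ := by
      haveI : IsLocalHom (toK ρ'.hom φ) := ⟨fun c hc => isUnit_of_isUnit_val ρ'.hom φ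
        (notMem_maximalIdeal.1 fun hm => by
          have h0 := RingHom.mem_ker.1 ((ker_eq ρ'.hom hρ).ge hm)
          have h4 := φ_toK ρ'.hom φ c
          rw [h0, map_eq_zero] at h4
          exact hc.ne_zero h4)⟩
      exact IsLocalRing.comap_closedPoint (toK ρ'.hom φ)
    have h5 := Function.Surjective.of_comp_left
      (g := ⇑(a₀.residueFieldMap ((Spec.map (CommRingCat.ofHom (toK ρ'.hom φ))) p)).hom)
      (f := ⇑((Spec.map (CommRingCat.ofHom (toK ρ'.hom φ))).residueFieldMap p).hom) h3 (RingHom.injective _)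
    exact hp ▸ h5
  have hcomm₀ : Spec.map (CommRingCat.ofHom π₀) ≫ b₀ = a₀ ≫ g := by
    refine eq_of_comp (sub ρ'.hom φ).subtype Subtype.val_injective ?_
    rw [← Category.assoc, ← Spec.map_comp, reassoc_of% ha₀, ← hcomm, ← hb₀, ← Category.assoc,
      ← Spec.map_comp]
    rfl
  obtain ⟨c₀, hc₁, hc₂⟩ := hT _ _ π₀ hπ₀ a₀ b₀ hcl hsurj hcomm₀
  refine ⟨Spec.map (CommRingCat.ofHom (sub (ρ'.hom.comp π) φ).subtype) ≫ c₀, ?_, ?_⟩
  · have e : CommRingCat.ofHom (sub (ρ'.hom.comp π) φ).subtype ≫ CommRingCat.ofHom π =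
        CommRingCat.ofHom π₀ ≫ CommRingCat.ofHom (sub ρ'.hom φ).subtype := rfl
    rw [← Category.assoc, ← Spec.map_comp, e, Spec.map_comp, Category.assoc, hc₁, ha₀]
  · rw [Category.assoc, hc₂, hb₀]

/-- Lifting through smooth morphisms along surjections of artinian local rings. -/
theorem exists_lift_smooth {U T : Scheme.{u}} (e : U ⟶ T) [Smooth e]
    {C C' : Type u} [CommRing C] [CommRing C'] [IsLocalRing C] [IsLocalRing C'] [IsArtinianRing C']
    (π : C' →+* C) (hπ : Function.Surjective π)
    (a : Spec (CommRingCat.of C) ⟶ U) (b : Spec (CommRingCat.of C') ⟶ T)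
    (h : Spec.map (CommRingCat.ofHom π) ≫ b = a ≫ e) :
    ∃ c : Spec (CommRingCat.of C') ⟶ U, Spec.map (CommRingCat.ofHom π) ≫ c = a ∧ c ≫ e = b := by
  haveI : IsLocalHom π := IsLocalHom.of_surjective π hπ
  have hpt : b (closedPoint C') = e (a (closedPoint C)) := by
    have h1 : (Spec.map (CommRingCat.ofHom π) ≫ b) (closedPoint C) = (a ≫ e) (closedPoint C) := by rw [h]
    change b (PrimeSpectrum.comap π (closedPoint C)) = e (a (closedPoint C)) at h1
    rwa [IsLocalRing.comap_closedPoint] at h1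
  obtain ⟨W, hW, hxW, -⟩ := exists_isAffineOpen_mem_and_subset (x := b (closedPoint C')) (U := ⊤) trivial
  obtain ⟨V, hV, hxV, hVW⟩ := exists_isAffineOpen_mem_and_subset (x := a (closedPoint C))
    (U := e ⁻¹ᵁ W) (show e (a (closedPoint C)) ∈ W from hpt ▸ hxW)
  let α := Spec.preimage (IsOpenImmersion.lift hV.fromSpec a
    (by rw [hV.range_fromSpec]; exact range_subset_of_closedPoint a V hxV))
  let β := Spec.preimage (IsOpenImmersion.lift hW.fromSpec b
    (by rw [hW.range_fromSpec]; exact range_subset_of_closedPoint b W hxW))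
  have hα : Spec.map α ≫ hV.fromSpec = a := by simp [α]
  have hβ : Spec.map β ≫ hW.fromSpec = b := by simp [β]
  have he : e.appLE W V hVW ≫ α = β ≫ CommRingCat.ofHom π := by
    refine Spec.map_injective ((cancel_mono hW.fromSpec).1 ?_)
    simp only [Spec.map_comp, Category.assoc, hβ, IsAffineOpen.SpecMap_appLE_fromSpec e hW hV hVW,
      reassoc_of% hα]
    exact h.symm
  have hsm := e.smooth_appLE hW hV hVW
  algebraize [(e.appLE W V hVW).hom]
  letI : Algebra Γ(T, W) C' := β.hom.toAlgebra
  letI : Algebra Γ(T, W) C := (π.comp β.hom).toAlgebra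
  let πA : C' →ₐ[Γ(T, W)] C := { π with commutes' := fun _ => rfl }
  let αA : Γ(U, V) →ₐ[Γ(T, W)] C :=
    { α.hom with commutes' := fun r => RingHom.congr_fun (congrArg CommRingCat.Hom.hom he) r }
  have hnil : IsNilpotent (RingHom.ker (πA : C' →+* C)) := by
    have hle : RingHom.ker (πA : C' →+* C) ≤ maximalIdeal C' :=
      le_maximalIdeal (RingHom.ker_ne_top _)
    obtain ⟨n, hn⟩ := IsArtinianRing.isNilpotent_jacobson_bot (R := C')
    rw [jacobson_eq_maximalIdeal ⊥ bot_ne_top] at hn
    exact ⟨n, le_bot_iff.1 ((Ideal.pow_right_mono hle n).trans hn.le)⟩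
  let L := Algebra.FormallySmooth.liftOfSurjective αA πA hπ hnil
  refine ⟨Spec.map (CommRingCat.ofHom L.toRingHom) ≫ hV.fromSpec, ?_, ?_⟩
  · rw [← hα, ← Category.assoc, ← Spec.map_comp]
    congr 2
    exact CommRingCat.hom_ext (RingHom.ext fun r =>
      Algebra.FormallySmooth.liftOfSurjective_apply αA πA hπ hnil r)
  · rw [← hβ, Category.assoc, ← IsAffineOpen.SpecMap_appLE_fromSpec e hW hV hVW, ← Category.assoc,
      ← Spec.map_comp]
    congr 2
    exact CommRingCat.hom_ext (RingHom.ext fun r => L.commutes r)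

end Groth.Agent.VersalLift
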