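import Mathlib

/-! Formal versality over a scheme implies lifting for finite residue field extensions. -/

set_option autoImplicit false
universe u

open CategoryTheory AlgebraicGeometry IsLocalRing

namespace Groth.Agent.VersalLift

variable {C κ k : Type u} [CommRing C] [Field κ] [Field k] (ρ : C →+* κ) (φ : k →+* κ)

/-- The fibre product of `C` and `k` over `κ`, as a subring of `C`. -/
abbrev sub : Subring C := φ.range.comap ρ

noncomputable def toK : sub ρ φ →+* k :=
  ((RingEquiv.ofBijective φ.rangeRestrict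
      ⟨fun _ _ h => φ.injective (congrArg Subtype.val h), φ.rangeRestrict_surjective⟩).symm.toRingHom).comp
    ((ρ.comp (sub ρ φ).subtype).codRestrict φ.range fun c => c.2)

theorem φ_toK (c : sub ρ φ) : φ (toK ρ φ c) = ρ c := by
  have h := RingEquiv.apply_symm_apply (RingEquiv.ofBijective φ.rangeRestrict
      ⟨fun _ _ h => φ.injective (congrArg Subtype.val h), φ.rangeRestrict_surjective⟩)
    ((ρ.comp (sub ρ φ).subtype).codRestrict φ.range (fun c => c.2) c)
  exact congrArg Subtype.val h

theorem φ_comp_toK : φ.comp (toK ρ φ) = ρ.comp (sub ρ φ).subtype :=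
  RingHom.ext (φ_toK ρ φ)

variable [IsLocalRing C]

theorem ker_eq (hρ : Function.Surjective ρ) : RingHom.ker ρ = maximalIdeal C :=
  eq_maximalIdeal (RingHom.ker_isMaximal_of_surjective ρ hρ)

theorem isUnit_of_isUnit_val {c : sub ρ φ} (hc : IsUnit (c : C)) : IsUnit c := by
  obtain ⟨v, hv⟩ := hc.exists_right_inv
  have hmem : v ∈ sub ρ φ := by
    obtain ⟨l, hl⟩ := c.2
    refine ⟨l⁻¹, ?_⟩
    rw [map_inv₀]
    exact inv_eq_of_mul_eq_one_right (by rw [hl, ← map_mul, hv, map_one])
  exact isUnit_iff_exists_inv.2 ⟨⟨v, hmem⟩, Subtype.ext hv⟩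

instance isLocalHom_subtype : IsLocalHom (sub ρ φ).subtype :=
  ⟨fun _ hc => isUnit_of_isUnit_val ρ φ hc⟩

instance isLocalRing_sub : IsLocalRing (sub ρ φ) :=
  RingHom.domain_isLocalRing (sub ρ φ).subtype

theorem mem_of_mem_maximalIdeal (hρ : Function.Surjective ρ) {c : C} (hc : c ∈ maximalIdeal C) :
    c ∈ sub ρ φ := by
  rw [← ker_eq ρ hρ] at hc
  exact ⟨0, by rw [map_zero, RingHom.mem_ker.1 hc]⟩

theorem finite_sub (hρ : Function.Surjective ρ) (hφ : φ.Finite) : Module.Finite (sub ρ φ) C := by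
  letI := φ.toAlgebra
  haveI : Module.Finite k κ := hφ
  obtain ⟨s, hs⟩ := Module.finite_def.1 (inferInstance : Module.Finite k κ)
  choose b hb using hρ
  classical
  refine Module.finite_def.2 ⟨insert 1 (s.image b), eq_top_iff.2 fun c _ => ?_⟩
  obtain ⟨l, -, hl⟩ := Submodule.mem_span_finset.1 (hs ▸ Submodule.mem_top : ρ c ∈ Submodule.span k (s : Set κ))
  have hmem : ∀ z, b (φ (l z)) ∈ sub ρ φ := fun z => ⟨l z, (hb _).symm⟩
  let w := ∑ z ∈ s, (⟨b (φ (l z)), hmem z⟩ : sub ρ φ) • b z
  have hw : ρ w = ρ c := by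
    rw [← hl, map_sum]
    refine Finset.sum_congr rfl fun z _ => ?_
    show ρ (b (φ (l z)) * b z) = φ (l z) * z
    rw [map_mul, hb, hb]
  have hd : c - w ∈ sub ρ φ := ⟨0, by rw [map_zero, map_sub, hw, sub_self]⟩
  have : c = (⟨c - w, hd⟩ : sub ρ φ) • (1 : C) + w := by
    show c = (c - w) * 1 + w
    ring
  rw [this]
  refine add_mem (Submodule.smul_mem _ _ (Submodule.subset_span (by simp))) (sum_mem fun z hz => ?_)
  exact Submodule.smul_mem _ _ (Submodule.subset_span (by simpa using Or.inr ⟨z, hz, rfl⟩))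

theorem isArtinianRing_sub [IsArtinianRing C] (hρ : Function.Surjective ρ) (hφ : φ.Finite) :
    IsArtinianRing (sub ρ φ) := by
  haveI := finite_sub ρ φ hρ hφ
  haveI : IsNoetherianRing C := inferInstance
  have hprime : ∀ P : Ideal (sub ρ φ), P.IsPrime → P = maximalIdeal (sub ρ φ) := fun P hP => by
    refine le_antisymm (le_maximalIdeal hP.ne_top) fun x hx => ?_
    have hxC : (x : C) ∈ maximalIdeal C := fun hu => hx (isUnit_of_isUnit_val ρ φ hu)
    obtain ⟨n, hn⟩ : IsNilpotent (x : C) := by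
      have h := (IsArtinianRing.isNilpotent_jacobson_bot (R := C))
      rw [jacobson_eq_maximalIdeal ⊥ bot_ne_top] at h
      obtain ⟨n, hn⟩ := h
      exact ⟨n, by
        have := Ideal.pow_mem_pow hxC n
        rw [hn] at this
        exact this⟩
    exact hP.mem_of_pow_mem n (by
      rw [show x ^ n = 0 from Subtype.ext (by simpa using hn)]
      exact P.zero_mem)
  haveI : IsNoetherianRing (sub ρ φ) := IsNoetherianRing.of_prime fun P hP => by
    rw [hprime P hP]
    haveI : Module.Finite C (maximalIdeal C) := inferInstance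
    haveI : Module.Finite (sub ρ φ) (maximalIdeal C) := Module.Finite.trans C _
    let f : (maximalIdeal C) →ₗ[sub ρ φ] maximalIdeal (sub ρ φ) :=
      { toFun := fun c => ⟨⟨c.1, mem_of_mem_maximalIdeal ρ φ hρ c.2⟩, fun hu => c.2 (hu.map (sub ρ φ).subtype)⟩
        map_add' := fun _ _ => rfl
        map_smul' := fun _ _ => rfl }
    exact Module.Finite.iff_fg.1 (Module.Finite.of_surjective f fun x =>
      ⟨⟨x.1.1, fun hu => x.2 (isUnit_of_isUnit_val ρ φ hu)⟩, rfl⟩)
  rw [isArtinianRing_iff_isNoetherianRing_krullDimLE_zero]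
  exact ⟨inferInstance, Ring.KrullDimLE.mk₀ fun P hP => hprime P hP ▸ inferInstance⟩

theorem range_subset_of_closedPoint {X : Scheme.{u}} (a : Spec (.of C) ⟶ X) (U : X.Opens)
    (h : a (closedPoint C) ∈ U) : Set.range a ⊆ U := by
  rintro _ ⟨z, rfl⟩
  have : a ⁻¹ᵁ U = ⊤ := (IsLocalRing.closed_point_mem_iff (U := a ⁻¹ᵁ U)).1 h
  exact this.ge (Set.mem_univ z)

/-- Descent of a morphism along the fibre product ring. -/
theorem exists_factor (hρ : Function.Surjective ρ) {X : Scheme.{u}} (a : Spec (.of C) ⟶ X)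
    (q : Spec (.of k) ⟶ X)
    (h : Spec.map (CommRingCat.ofHom ρ) ≫ a = Spec.map (CommRingCat.ofHom φ) ≫ q) :
    ∃ a₀ : Spec (.of (sub ρ φ)) ⟶ X, Spec.map (CommRingCat.ofHom (sub ρ φ).subtype) ≫ a₀ = a ∧
      Spec.map (CommRingCat.ofHom (toK ρ φ)) ≫ a₀ = q := by
  obtain ⟨U, hU, hxU, -⟩ := exists_isAffineOpen_mem_and_subset (x := a (closedPoint C)) (U := ⊤) trivial
  haveI := hρ.nontrivial
  have hq : q (closedPoint k) ∈ U := by
    have e1 : (Spec.map (CommRingCat.ofHom ρ) ≫ a) (closedPoint κ) = a (closedPoint C) := by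
      haveI : IsLocalHom ρ := ⟨fun c hc => notMem_maximalIdeal.1 fun hm => hc.ne_zero (RingHom.mem_ker.1 ((ker_eq ρ hρ).ge hm))⟩
      show a (PrimeSpectrum.comap ρ (closedPoint κ)) = _
      rw [IsLocalRing.comap_closedPoint]
    rw [h] at e1
    rw [show q (closedPoint k) = a (closedPoint C) from ?_]
    · exact hxU
    · refine Eq.trans (congrArg q ?_) e1
      exact Subsingleton.elim _ _
  let α := Spec.preimage (IsOpenImmersion.lift hU.fromSpec a
    (by rw [hU.range_fromSpec]; exact range_subset_of_closedPoint a U hxU))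
  let θ := Spec.preimage (IsOpenImmersion.lift hU.fromSpec q
    (by rw [hU.range_fromSpec]; exact range_subset_of_closedPoint q U hq))
  have hα : Spec.map α ≫ hU.fromSpec = a := by simp [α]
  have hθ : Spec.map θ ≫ hU.fromSpec = q := by simp [θ]
  have he : α ≫ CommRingCat.ofHom ρ = θ ≫ CommRingCat.ofHom φ := by
    refine Spec.map_injective ((cancel_mono hU.fromSpec).1 ?_)
    simp only [Spec.map_comp, Category.assoc, hα, hθ]
    exact h
  have hm : ∀ r, α.hom r ∈ sub ρ φ := fun r => ⟨θ.hom r, (RingHom.congr_fun (congrArg CommRingCat.Hom.hom he) r).symm⟩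
  let α₀ := α.hom.codRestrict (sub ρ φ) hm
  refine ⟨Spec.map (CommRingCat.ofHom α₀) ≫ hU.fromSpec, ?_, ?_⟩
  · rw [← Category.assoc, ← Spec.map_comp]
    exact (congrArg (fun z => Spec.map z ≫ hU.fromSpec) (CommRingCat.hom_ext (RingHom.ext fun r => rfl))).trans hα
  · rw [← Category.assoc, ← Spec.map_comp]
    refine (congrArg (fun z => Spec.map z ≫ hU.fromSpec) (CommRingCat.hom_ext (RingHom.ext fun r => φ.injective ?_))).trans hθ
    exact (φ_toK ρ φ (α₀ r)).trans (RingHom.congr_fun (congrArg CommRingCat.Hom.hom he) r)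

/-- Morphisms out of a local ring are detected on a local overring. -/
theorem eq_of_comp {R : Type u} [CommRing R] [IsLocalRing R] {X : Scheme.{u}} (i : R →+* C) [IsLocalHom i]
    (hi : Function.Injective i) {a b : Spec (.of R) ⟶ X}
    (h : Spec.map (CommRingCat.ofHom i) ≫ a = Spec.map (CommRingCat.ofHom i) ≫ b) : a = b := by
  have e : a (closedPoint R) = b (closedPoint R) := by
    have h1 : (Spec.map (CommRingCat.ofHom i) ≫ a) (closedPoint C) =
        (Spec.map (CommRingCat.ofHom i) ≫ b) (closedPoint C) := by rw [h]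
    change a (PrimeSpectrum.comap i _) = b (PrimeSpectrum.comap i _) at h1
    rwa [IsLocalRing.comap_closedPoint] at h1
  obtain ⟨U, hU, hxU, -⟩ := exists_isAffineOpen_mem_and_subset (x := a (closedPoint R)) (U := ⊤) trivial
  let α := Spec.preimage (IsOpenImmersion.lift hU.fromSpec a
    (by rw [hU.range_fromSpec]; exact range_subset_of_closedPoint a U hxU))
  let β := Spec.preimage (IsOpenImmersion.lift hU.fromSpec b
    (by rw [hU.range_fromSpec]; exact range_subset_of_closedPoint b U (e ▸ hxU)))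
  have hα : Spec.map α ≫ hU.fromSpec = a := by simp [α]
  have hβ : Spec.map β ≫ hU.fromSpec = b := by simp [β]
  have he : α ≫ CommRingCat.ofHom i = β ≫ CommRingCat.ofHom i := by
    refine Spec.map_injective ((cancel_mono hU.fromSpec).1 ?_)
    simp only [Spec.map_comp, Category.assoc, hα, hβ]
    exact h
  rw [← hα, ← hβ, show α = β from CommRingCat.hom_ext (RingHom.ext fun r =>
    hi (RingHom.congr_fun (congrArg CommRingCat.Hom.hom he) r))]

end Groth.Agent.VersalLift
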